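import Cfsg.Agent.H53.HC.Gal

/-!
# Cuspidal characters of `SL_n(F)` not invariant under the graph automorphisms

`F` finite, `[L : F] = n`, `Θ = powTheta θ (q - 1)` with `θ : L →*₀ ℂ` injective, `η` an irreducible constituent of the
restriction of `psi L Θ` to `SL_n(F)`. `NS n F` : `(q^n - 1)/(q - 1)` does not divide `(q - 1) (q^i + p^j)`.

* `regular` : `Θ` is regular;
* `not_swap` : `η` is not invariant under `x ↦ C (x⁻¹)^{τ T} C⁻¹`.
-/

set_option autoImplicit false
set_option linter.unusedSectionVars false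

open Polynomial Cfsg
open scoped ComplexConjugate

namespace Cfsg.Agent.H622.Van

open Cfsg.Agent.H139.Cusp Cfsg.Agent.Characters Matrix
open Cfsg.Agent.H53.HC.Gal (exists_frob_eq exists_frob_pow exists_ext psi_inv cuspMat_conj cuspMat_semilinear
  inner_ne_zero)

universe u v w

attribute [local instance] fintypeHom fintypeSub finite_quot

/-- the number theoretic condition -/
def NS (n q : ℕ) : Prop :=
  ∀ p f : ℕ, p.Prime → 0 < f → q = p ^ f → ∀ i j : ℕ,
    ¬ (∑ a ∈ Finset.range n, q ^ a) ∣ (q - 1) * (q ^ i + p ^ j)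

variable {F : Type u} [Field F] [Finite F] {L : Type w} [Field L] [Finite L] [Algebra F L] {n : ℕ}
  {θ : L →*₀ ℂ} (hθ : Function.Injective θ)

include hθ

/-- the character is regular -/
theorem regular (hL : Module.finrank F L = n) (hq0 : Nat.card F - 1 ≠ 0) :
    Regular F n (powTheta θ (Nat.card F - 1) hq0) := by
  rw [regular_powTheta_iff hθ hq0 hL]
  intro i hi hin hdvd
  have hq : 2 ≤ Nat.card F := Finite.one_lt_card
  have h1 : 0 < Nat.card F ^ i - 1 := Nat.sub_pos_of_lt (Nat.one_lt_pow (by omega) hq)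
  have h2 := Nat.le_of_dvd (Nat.mul_pos (Nat.pos_of_ne_zero hq0) h1) hdvd
  obtain ⟨m, rfl⟩ := Nat.exists_eq_add_of_lt hin
  have h3 : Nat.card F ^ i ≤ Nat.card F ^ (i + m) := Nat.pow_le_pow_right (by omega) (by omega)
  have h4 : (Nat.card F - 1) * (Nat.card F ^ i - 1) ≤ (Nat.card F - 1) * (Nat.card F ^ (i + m) - 1) :=
    Nat.mul_le_mul_left _ (by omega)
  have h5 : (Nat.card F - 1) * (Nat.card F ^ (i + m) - 1) < Nat.card F ^ (i + m + 1) - 1 := by
    rw [pow_succ]
    obtain ⟨y, hy⟩ := Nat.exists_eq_add_of_le hq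
    obtain ⟨x, hx⟩ : ∃ x, Nat.card F ^ (i + m) = 2 + x := by
      have : 2 ≤ Nat.card F ^ (i + m) := by
        have := Nat.one_lt_pow (n := i + m) (by omega) hq
        omega
      exact Nat.exists_eq_add_of_le this
    rw [hx, hy]
    have e1 : 2 + y - 1 = y + 1 := by omega
    have e2 : 2 + x - 1 = x + 1 := by omega
    have e3 : (2 + x) * (2 + y) = x * y + 2 * x + 2 * y + 3 + 1 := by ring
    have e4 : (y + 1) * (x + 1) = x * y + x + y + 1 := by ring
    rw [e1, e2, e3, e4]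
    omega
  omega

theorem no_common (hns : NS n (Nat.card F)) (hn : Module.finrank F L = n) {p : ℕ} [Fact p.Prime] [CharP F p]
    {σ : L ≃+* L} {j : ℕ}
    (hσ : ∀ x, σ x = x ^ p ^ j) (hq0 : Nat.card F - 1 ≠ 0) {Θ' : L →*₀ ℂ}
    (hΘ' : ∀ x, Θ' x = conj (powTheta θ (Nat.card F - 1) hq0 (σ x)))
    [Fintype (SpecialLinearGroup (Fin n) F)]
    (h : classInner (psi (n := n) (F := F) L (powTheta θ (Nat.card F - 1) hq0) ∘ SpecialLinearGroup.toGL)
      (psi L Θ' ∘ SpecialLinearGroup.toGL) ≠ 0) : False := by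
  have hp : p.Prime := Fact.out
  have : Fintype F := Fintype.ofFinite F
  obtain ⟨i, -, hi⟩ := exists_frob_eq hn _ _ h
  obtain ⟨f, hf⟩ : ∃ f : ℕ+, Fintype.card F = p ^ (f : ℕ) := by
    obtain ⟨f, -, hf⟩ := FiniteField.card F p
    exact ⟨f, hf⟩
  have hq : Nat.card F = p ^ (f : ℕ) := by rw [Nat.card_eq_fintype_card, hf]
  have hq2 : 2 ≤ Nat.card F := Finite.one_lt_card
  obtain ⟨γ, hγ⟩ := IsCyclic.exists_ofOrder_eq_natCard (α := Lˣ)
  set q := Nat.card F with hqd
  -- the norm of `γ ^ (q - 1)`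
  have hnorm : Algebra.norm F ((γ : L) ^ (q - 1)) = 1 := by
    rw [map_pow]
    have h1 : Algebra.norm F (γ : L) ≠ 0 := by
      rw [Ne, Algebra.norm_eq_zero_iff]
      exact γ.ne_zero
    have h3 : (Units.mk0 _ h1) ^ (q - 1) = 1 := by
      rw [hqd, ← Nat.card_units]
      exact pow_card_eq_one'
    exact congrArg Units.val h3
  have h1 := hi _ hnorm
  rw [hΘ', conj_theta_eq, powTheta_apply, powTheta_apply, hσ] at h1
  -- `γ ^ ((q - 1) * ((q - 1) * (q ^ i + p ^ j))) = 1`
  have h2 : θ ((γ : L) ^ ((q - 1) * ((q - 1) * (q ^ i + p ^ j)))) = 1 := by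
    have e1 : (q - 1) * ((q - 1) * (q ^ i + p ^ j)) = (q - 1) * q ^ i * (q - 1) + (q - 1) * p ^ j * (q - 1) := by ring
    rw [e1, pow_add, map_mul, pow_mul _ ((q - 1) * q ^ i), pow_mul _ ((q - 1) * p ^ j), map_pow θ (_ ^ _) (q - 1),
      map_pow θ (_ ^ _) (q - 1), pow_mul, pow_mul, ← h1, map_inv₀, inv_pow]
    refine inv_mul_cancel₀ (pow_ne_zero _ ?_)
    rw [Ne, map_eq_zero θ]
    exact pow_ne_zero _ (pow_ne_zero _ γ.ne_zero)
  have h3 : γ ^ ((q - 1) * ((q - 1) * (q ^ i + p ^ j))) = 1 := by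
    apply Units.ext
    rw [Units.val_pow_eq_pow_val, Units.val_one]
    exact hθ (by rw [h2, map_one])
  have h4 := orderOf_dvd_of_pow_eq_one h3
  rw [hγ, Nat.card_units, Module.natCard_eq_pow_finrank (K := F), hn, ← hqd] at h4
  have h5 : q ^ n - 1 = (q - 1) * ∑ a ∈ Finset.range n, q ^ a := by
    rw [mul_comm]
    exact (geom_sum_mul_of_one_le (by omega) n).symm
  rw [h5] at h4
  have h6 := Nat.dvd_of_mul_dvd_mul_left (by omega) h4
  exact hns p f hp f.2 hq i j h6

/-- **No invariance under the graph automorphisms.** -/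
theorem not_swap (hns : NS n (Nat.card F)) (hn : Module.finrank F L = n) (hq0 : Nat.card F - 1 ≠ 0)
    {η : SpecialLinearGroup (Fin n) F → ℂ} (hη : IsIrrCharacter _ η)
    (hc : IsCharacter _ (psi (n := n) (F := F) L (powTheta θ (Nat.card F - 1) hq0) ∘ SpecialLinearGroup.toGL - η))
    (τ : F ≃+* F) (C : GL (Fin n) F) (α : SpecialLinearGroup (Fin n) F →* SpecialLinearGroup (Fin n) F)
    (hα : ∀ x, (α x : Matrix (Fin n) (Fin n) F) =
      C * ((x⁻¹ : SpecialLinearGroup (Fin n) F) : Matrix (Fin n) (Fin n) F).transpose.map τ *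
        ((C⁻¹ : GL (Fin n) F) : Matrix (Fin n) (Fin n) F)) : η ∘ α ≠ η := by
  classical
  intro hinv
  have : Fintype F := Fintype.ofFinite F
  obtain ⟨p, hp'⟩ := CharP.exists F
  have : Fact p.Prime := ⟨CharP.char_is_prime F p⟩
  obtain ⟨j, hj⟩ := exists_frob_pow (p := p) τ
  obtain ⟨σ, hσ, hστ⟩ := exists_ext (L := L) hj
  set Θ := powTheta θ (Nat.card F - 1) hq0 with hΘ
  let Θ₁ : L →*₀ ℂ := Θ.comp (σ : L →+* L).toMonoidWithZeroHom
  have hΘ₁ : ∀ x, Θ (σ x) = Θ₁ x := fun x => rfl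
  refine no_common hθ hns hn hσ hq0 (Θ' := conjTheta Θ₁) (fun x => rfl) (inner_ne_zero hη hc ?_)
  have h1 : (psi (n := n) (F := F) L Θ ∘ SpecialLinearGroup.toGL) ∘ α =
      psi L (conjTheta Θ₁) ∘ SpecialLinearGroup.toGL := by
    funext x
    rw [Function.comp_apply, Function.comp_apply, Function.comp_apply, ← psi_inv hn Θ₁, ← map_inv]
    have h2 : psi L Θ (SpecialLinearGroup.toGL (α x)) =
        cuspMat L Θ (((x⁻¹ : SpecialLinearGroup (Fin n) F) : Matrix (Fin n) (Fin n) F).transpose.map τ) := by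
      let T : SpecialLinearGroup (Fin n) F := ⟨((x⁻¹ : SpecialLinearGroup (Fin n) F) :
        Matrix (Fin n) (Fin n) F).transpose.map τ, by
          have h3 : (((x⁻¹ : SpecialLinearGroup (Fin n) F) : Matrix (Fin n) (Fin n) F).transpose.map τ).det =
              τ (((x⁻¹ : SpecialLinearGroup (Fin n) F) : Matrix (Fin n) (Fin n) F).transpose.det) :=
            (RingHom.map_det (τ : F →+* F) _).symm
          rw [h3, Matrix.det_transpose, (x⁻¹).2, map_one]⟩
      have h4 : ((C * SpecialLinearGroup.toGL T * C⁻¹ : GL (Fin n) F) : Matrix (Fin n) (Fin n) F) = (α x).1 := by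
        rw [hα]; rfl
      have h5 := cuspMat_conj Θ C (SpecialLinearGroup.toGL T)
      rw [h4] at h5
      exact h5
    rw [h2, Matrix.transpose_map, cuspMat_transpose, cuspMat_semilinear hn hστ hΘ₁]
    rfl
  have h2 := Core.isCharacter_comp α hc
  have h3 : (psi (n := n) (F := F) L Θ ∘ SpecialLinearGroup.toGL - η) ∘ α =
      psi L (conjTheta Θ₁) ∘ SpecialLinearGroup.toGL - η := by
    rw [← h1]
    funext x
    change (psi L Θ ∘ SpecialLinearGroup.toGL) (α x) - (η ∘ α) x = _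
    rw [hinv]
    rfl
  rw [h3] at h2
  exact h2

end Cfsg.Agent.H622.Van
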