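import Mathlib
import Cfsg.Agent.H622.Levi.Semi

/-!
Automorphisms of images of `SL_n(F)`, `3 ≤ n`, which reverse the root groups are induced by semilinear maps and the
inverse transpose.

* `exists_ringEquiv`, `swapC`, `swapHom_tv`, `exists_swap`.
-/

set_option autoImplicit false
set_option linter.unusedSectionVars false

namespace Cfsg.Agent.H622.Van

open Matrix
open Cfsg.Agent.TitsThree.KSideA (tv tv_of_ne tv_add tv_zero tv_neg tv_comm)
open Cfsg.Agent.H622.Levi (swapHom coe_swapHom)
open scoped commutatorElement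

theorem exists_third {n : ℕ} (hn : 3 ≤ n) (a b : Fin n) : ∃ c : Fin n, c ≠ a ∧ c ≠ b := by
  have h1 : ({a, b} : Finset (Fin n)).card < (Finset.univ : Finset (Fin n)).card := by
    rw [Finset.card_univ, Fintype.card_fin]
    exact lt_of_le_of_lt Finset.card_le_two (by omega)
  obtain ⟨c, -, hc⟩ := Finset.exists_mem_notMem_of_card_lt_card h1
  simp only [Finset.mem_insert, Finset.mem_singleton, not_or] at hc
  exact ⟨c, hc⟩

section ring

variable {F : Type*} [Field F] [Finite F] {n : ℕ}

theorem exists_ringEquiv (hn : 3 ≤ n) {f : Fin n → Fin n → F → F}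
    (hadd : ∀ a b, a ≠ b → ∀ s t, f a b (s + t) = f a b s + f a b t)
    (hmul : ∀ a b c, a ≠ b → b ≠ c → a ≠ c → ∀ s t, f a c (s * t) = f a b s * f b c t)
    (hne : ∀ a b, a ≠ b → f a b 1 ≠ 0) :
    ∃ (τ : F ≃+* F) (d : Fin n → F), (∀ a, d a ≠ 0) ∧ ∀ a b, a ≠ b → ∀ t, f a b t = d a * τ t * (d b)⁻¹ := by
  obtain ⟨z, o, hzo⟩ : ∃ z o : Fin n, z ≠ o := ⟨⟨0, by omega⟩, ⟨1, by omega⟩, by
    intro h
    have := congrArg Fin.val h
    simp at this⟩
  have hrow : ∀ a b c, a ≠ b → a ≠ c → ∀ s, f a b s * (f a b 1)⁻¹ = f a c s * (f a c 1)⁻¹ := by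
    intro a b c hab hac s
    by_cases hbc : b = c
    · rw [hbc]
    · have h1 := hmul a b c hab hbc hac s 1
      have h2 := hmul a b c hab hbc hac 1 1
      rw [mul_one] at h1 h2
      have h3 := hne b c hbc
      have h4 := hne a b hab
      rw [h1, h2]
      field_simp
  have hcol : ∀ a b c, a ≠ c → b ≠ c → ∀ s, f a c s * (f a c 1)⁻¹ = f b c s * (f b c 1)⁻¹ := by
    intro a b c hac hbc s
    by_cases hab : a = b
    · rw [hab]
    · have h1 := hmul a b c hab hbc hac 1 s
      have h2 := hmul a b c hab hbc hac 1 1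
      rw [one_mul] at h1 h2
      have h3 := hne b c hbc
      have h4 := hne a b hab
      rw [h1, h2]
      field_simp
  have hall : ∀ a b, a ≠ b → ∀ s, f a b s * (f a b 1)⁻¹ = f z o s * (f z o 1)⁻¹ := by
    intro a b hab s
    obtain ⟨c, hca, hcz⟩ := exists_third hn a z
    rw [hrow a b c hab hca.symm, hcol a z c hca.symm hcz.symm, hrow z c o hcz.symm hzo]
  obtain ⟨w, hwz, hwo⟩ := exists_third hn z o
  let τ₀ : F →+* F :=
    { toFun := fun s => f z o s * (f z o 1)⁻¹
      map_one' := mul_inv_cancel₀ (hne z o hzo)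
      map_zero' := by
        have h1 := hadd z o hzo 0 0
        rw [add_zero] at h1
        have h2 : f z o 0 = 0 := by
          have : f z o 0 + 0 = f z o 0 + f z o 0 := by rw [add_zero]; exact h1
          exact (add_left_cancel this).symm
        rw [h2, zero_mul]
      map_add' := fun s t => by rw [hadd z o hzo, add_mul]
      map_mul' := fun s t => by
        have h1 := hmul z w o hwz.symm hwo hzo s t
        have h2 := hmul z w o hwz.symm hwo hzo 1 1
        rw [mul_one] at h2
        change f z o (s * t) * (f z o 1)⁻¹ = (f z o s * (f z o 1)⁻¹) * (f z o t * (f z o 1)⁻¹)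
        rw [← hall z w hwz.symm s, ← hall w o hwo t, h1, h2, mul_inv]
        ring }
  have hbij : Function.Bijective τ₀ := Finite.injective_iff_bijective.1 τ₀.injective
  let τ : F ≃+* F := RingEquiv.ofBijective τ₀ hbij
  have hτ : ∀ a b, a ≠ b → ∀ s, f a b s = f a b 1 * τ s := fun a b hab s => by
    have h1 : τ s = f a b s * (f a b 1)⁻¹ := (hall a b hab s).symm
    have h2 := hne a b hab
    rw [h1]
    field_simp
  refine ⟨τ, fun a => if a = z then 1 else f a z 1, ?_, ?_⟩
  · intro a
    dsimp only
    split_ifs with h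
    · exact one_ne_zero
    · exact hne a z h
  · intro a b hab t
    dsimp only
    rw [hτ a b hab t]
    by_cases ha : a = z
    · subst ha
      rw [if_pos rfl, if_neg (Ne.symm hab)]
      obtain ⟨c, hca, hcb⟩ := exists_third hn a b
      have h1 := hmul a b c hab hcb.symm hca.symm 1 1
      have h2 := hmul b a c (Ne.symm hab) hca.symm hcb.symm 1 1
      rw [mul_one] at h1 h2
      have h3 := hne a c hca.symm
      have h4 : f a b 1 * f b a 1 = 1 := by
        apply mul_right_cancel₀ h3
        rw [mul_assoc, ← h2, ← h1, one_mul]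
      have h5 := hne b a (Ne.symm hab)
      rw [eq_mul_inv_iff_mul_eq₀ h5, one_mul]
      calc f a b 1 * τ t * f b a 1 = (f a b 1 * f b a 1) * τ t := by ring
        _ = τ t := by rw [h4, one_mul]
    · rw [if_neg ha]
      by_cases hb : b = z
      · subst hb
        rw [if_pos rfl, inv_one, mul_one]
      · rw [if_neg hb]
        have h1 := hmul a b z hab hb ha 1 1
        rw [mul_one] at h1
        have h5 := hne b z hb
        rw [h1]
        field_simp

end ring

section gen

variable {F : Type*} [Field F] {n : ℕ}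

/-- the monomial matrix of the swap -/
def swapC (d : Fin n → F) (hd : ∀ a, d a ≠ 0) : GL (Fin n) F where
  val := Matrix.of fun i j => if j = Fin.rev i then (d j)⁻¹ else 0
  inv := Matrix.of fun i j => if i = Fin.rev j then d i else 0
  val_inv := by
    ext i k
    rw [Matrix.mul_apply, Finset.sum_eq_single (Fin.rev i)]
    · simp only [Matrix.of_apply, if_true]
      by_cases hik : i = k
      · subst hik
        rw [if_pos rfl, inv_mul_cancel₀ (hd _), Matrix.one_apply_eq]
      · rw [if_neg (fun h => hik (Fin.rev_injective h)), mul_zero, Matrix.one_apply_ne hik]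
    · intro b _ hb
      simp only [Matrix.of_apply]
      rw [if_neg hb, zero_mul]
    · intro h
      exact absurd (Finset.mem_univ _) h
  inv_val := by
    ext i k
    rw [Matrix.mul_apply, Finset.sum_eq_single (Fin.rev i)]
    · simp only [Matrix.of_apply, Fin.rev_rev, if_true]
      by_cases hik : k = i
      · subst hik
        rw [if_pos rfl, mul_inv_cancel₀ (hd _), Matrix.one_apply_eq]
      · rw [if_neg hik, mul_zero, Matrix.one_apply_ne (Ne.symm hik)]
    · intro b _ hb
      simp only [Matrix.of_apply]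
      rw [if_neg (fun h => hb (by rw [h, Fin.rev_rev])), zero_mul]
    · intro h
      exact absurd (Finset.mem_univ _) h

theorem swapC_single (d : Fin n → F) (hd : ∀ a, d a ≠ 0) (a b : Fin n) (x : F) :
    ((swapC d hd : GL (Fin n) F) : Matrix (Fin n) (Fin n) F) * Matrix.single b a x *
      (((swapC d hd)⁻¹ : GL (Fin n) F) : Matrix (Fin n) (Fin n) F) =
    Matrix.single (Fin.rev b) (Fin.rev a) ((d b)⁻¹ * x * d a) := by
  change (Matrix.of fun i j => if j = Fin.rev i then (d j)⁻¹ else 0) * Matrix.single b a x *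
    (Matrix.of fun i j => if i = Fin.rev j then d i else 0) = _
  ext i k
  rw [Matrix.mul_apply, Finset.sum_eq_single a]
  · rw [Matrix.mul_apply, Finset.sum_eq_single b]
    · simp only [Matrix.of_apply, Matrix.single_apply, and_self, if_true]
      by_cases h1 : b = Fin.rev i
      · by_cases h2 : a = Fin.rev k
        · rw [if_pos h1, if_pos h2, if_pos ⟨by rw [h1, Fin.rev_rev], by rw [h2, Fin.rev_rev]⟩]
        · rw [if_neg h2, mul_zero, if_neg (fun h => h2 (by rw [← h.2, Fin.rev_rev]))]
      · rw [if_neg h1, zero_mul, zero_mul, if_neg (fun h => h1 (by rw [← h.1, Fin.rev_rev]))]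
    · intro c _ hc
      rw [Matrix.single_apply, if_neg (fun h => hc h.1.symm), mul_zero]
    · intro h
      exact absurd (Finset.mem_univ _) h
  · intro c _ hc
    rw [Matrix.mul_apply, Finset.sum_eq_zero, zero_mul]
    intro e _
    rw [Matrix.single_apply, if_neg (fun h => hc h.2.symm), mul_zero]
  · intro h
    exact absurd (Finset.mem_univ _) h

theorem val_tv {a b : Fin n} (hab : a ≠ b) (s : F) : (tv a b s : Matrix.SpecialLinearGroup (Fin n) F).1 =
    1 + Matrix.single a b s := by
  rw [tv_of_ne hab]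
  rfl

theorem map_tv {a b : Fin n} (hab : a ≠ b) (s : F) (τ : F ≃+* F) :
    ((tv a b s : Matrix.SpecialLinearGroup (Fin n) F).1).map τ = 1 + Matrix.single a b (τ s) := by
  rw [val_tv hab]
  ext i j
  simp only [Matrix.map_apply, Matrix.add_apply, map_add, Matrix.one_apply, Matrix.single_apply, apply_ite τ, map_one,
    map_zero]

theorem swapHom_tv (d : Fin n → F) (hd : ∀ a, d a ≠ 0) (τ : F ≃+* F) {a b : Fin n} (hab : a ≠ b) (s : F) :
    swapHom (swapC d hd) τ (tv a b s) = tv (Fin.rev b) (Fin.rev a) (-(d a * τ s * (d b)⁻¹)) := by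
  have hab' : Fin.rev b ≠ Fin.rev a := fun h => hab (Fin.rev_injective h).symm
  apply Subtype.ext
  rw [coe_swapHom, ← tv_neg, val_tv hab', map_tv hab, map_neg, Matrix.transpose_add, Matrix.transpose_one,
    Matrix.transpose_single, Matrix.mul_add, Matrix.mul_one, Matrix.add_mul, swapC_single, ← Units.val_mul,
    mul_inv_cancel, Units.val_one]
  congr 2
  ring

/-! ### the automorphisms -/

variable [Finite F] {Y : Type*} [Group Y] {φ : Matrix.SpecialLinearGroup (Fin n) F →* Y}

theorem hom_ext_tv (hn : 3 ≤ n) {α β : Matrix.SpecialLinearGroup (Fin n) F →* Y}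
    (h : ∀ a b : Fin n, a ≠ b → ∀ s : F, α (tv a b s) = β (tv a b s)) : α = β := by
  have : Nontrivial (Fin n) := Fin.nontrivial_iff_two_le.2 (by omega)
  ext x
  refine Cfsg.Agent.LieClassical.SLGen.transvection_induction (fun x => α x = β x) ?_ ?_ x
  · intro a b hab s
    have := h a b hab s
    rwa [tv_of_ne hab] at this
  · intro x y hx hy
    rw [map_mul, map_mul, hx, hy]

/-- **Elements which reverse the root groups.** -/
theorem exists_swap (hn : 3 ≤ n) (hinj : ∀ a b : Fin n, a ≠ b → Function.Injective fun t : F => φ (tv a b t)) {g : Y}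
    (hg : ∀ a b : Fin n, a ≠ b → ∀ s : F, ∃ t : F, g * φ (tv a b s) * g⁻¹ = φ (tv (Fin.rev b) (Fin.rev a) t)) :
    ∃ (τ : F ≃+* F) (C : GL (Fin n) F), ∀ x, g * φ x * g⁻¹ = φ (swapHom C τ x) := by
  choose! f hf using hg
  have hrev : ∀ {a b : Fin n}, a ≠ b → Fin.rev b ≠ Fin.rev a := fun hab h => hab (Fin.rev_injective h).symm
  obtain ⟨τ, d, hd, hτ⟩ := exists_ringEquiv hn (f := fun a b s => -f a b s) (by
      intro a b hab s t
      have h1 := hf a b hab (s + t)
      rw [tv_add, map_mul] at h1
      have h2 : g * (φ (tv a b s) * φ (tv a b t)) * g⁻¹ = (g * φ (tv a b s) * g⁻¹) * (g * φ (tv a b t) * g⁻¹) := by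
        group
      rw [h2, hf a b hab, hf a b hab, ← map_mul, ← tv_add] at h1
      change -f a b (s + t) = -f a b s + -f a b t
      rw [← hinj _ _ (hrev hab) h1]
      ring) (by
      intro a b c hab hbc hac s t
      have h1 := hf a c hac (s * t)
      rw [← tv_comm hab hbc hac, map_commutatorElement, conjugate_commutatorElement] at h1
      rw [hf a b hab, hf b c hbc, ← map_commutatorElement, ← commutatorElement_inv,
        tv_comm (hrev hbc) (hrev hab) (hrev hac), ← tv_neg] at h1
      change -f a c (s * t) = -f a b s * -f b c t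
      rw [← hinj _ _ (hrev hac) h1]
      ring) (by
      intro a b hab h0
      have h1 := hf a b hab 1
      rw [neg_eq_zero.1 h0, tv_zero, map_one, mul_inv_eq_one, mul_eq_left, ← map_one φ, ← tv_zero a b] at h1
      exact one_ne_zero (hinj a b hab h1))
  refine ⟨τ, swapC d hd, fun x => ?_⟩
  have h1 : (MulAut.conj g).toMonoidHom.comp φ = φ.comp (swapHom (swapC d hd) τ) := by
    refine hom_ext_tv hn fun a b hab s => ?_
    rw [MonoidHom.comp_apply, MonoidHom.comp_apply, swapHom_tv d hd τ hab]
    change g * φ (tv a b s) * g⁻¹ = _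
    rw [hf a b hab, ← hτ a b hab s, neg_neg]
  exact DFunLike.congr_fun h1 x

end gen

end Cfsg.Agent.H622.Van
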