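import Mathlib
import Cfsg.Agent.H622.Levi.Cusp
import Cfsg.Agent.H53.HC.Exc
import Cfsg.Agent.H622.Van.Semi
import Cfsg.Agent.H622.Van.Gal

/-!
Maximal parabolic subgroups with a Levi subgroup of type `A_m`, `2 ≤ m`, with `N_W(W_J) ≠ W_J`: irreducible
Harish-Chandra induced characters.

* `exists_chain_ns` : cuspidal characters of `MJ` which are not invariant under elements reversing the chain;
* `flip_of` : elements outside `W_J` which permute the simple roots of `J` reverse the chain;
* `exists_irr_chain` : the irreducible characters.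
-/

set_option autoImplicit false
set_option linter.unusedSectionVars false

namespace Cfsg.Agent.H622.Van

open Cfsg Cfsg.Agent.Characters CoxeterSystem Cfsg.Agent.ChevalleyStructure.CoxeterGeom Cfsg.Agent.Tits.Roots
  Cfsg.Agent.Tits.Core Cfsg.Agent.Nodes.Reps Cfsg.Agent.Nodes.BNOf Cfsg.Agent.Nodes.StabComb
  Cfsg.Agent.Nodes.RootsA Cfsg.Agent.Nodes.SubComb Cfsg.Agent.Nodes.LeviDec Cfsg.Agent.Nodes.OppDec
  Cfsg.Agent.Nodes.Bruhat
open Cfsg.Agent.LieRecognition.BNCox (cA cA_apply)
open Cfsg.Agent.LieRecognition.CoxClass (mA)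
open Cfsg.Agent.TitsThree.KSideA (tv tv_of_ne tv_add tv_zero tv_neg tv_comm)
open Cfsg.Agent.H139.Cusp (powTheta powTheta_algebraMap psi)
open Cfsg.Agent.H622.Levi (cr cr_neg cr_succ Co exists_co exists_sl_con exists_descend swapHom coe_swapHom mem_rootsJ)
open Cfsg.Agent.H53.HC (conjME conjME_coe Cusp Perm)
open Matrix
open scoped commutatorElement ComplexConjugate

variable {I W Y : Type*} [Fintype I] [DecidableEq I] [Group W] [Group Y] {M : CoxeterMatrix I}
  {cs : CoxeterSystem M W} {A : I → I → ℤ} {h : IsCartan M A} {p : ℕ} {T : Subgroup Y} {n : I → Y}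
  {X : (I → ℤ) → Subgroup Y}

section cnj

variable {F : Type} [Field F] {m : ℕ} {φ : SpecialLinearGroup (Fin (m + 1)) F →* Y}

/-- injectivity on root groups -/
theorem tv_injective (hm : 2 ≤ m) (hker : φ.ker ≤ Subgroup.center (SpecialLinearGroup (Fin (m + 1)) F))
    {a b : Fin (m + 1)} (hab : a ≠ b) : Function.Injective fun t : F => φ (tv a b t) := by
  obtain ⟨c, hca, hcb⟩ := exists_third (n := m + 1) (by omega) a b
  intro s t hst
  have h2 : (tv a b s)⁻¹ * tv a b t ∈ φ.ker := by
    rw [MonoidHom.mem_ker, map_mul, map_inv]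
    exact inv_mul_eq_one.2 hst
  have h3 := hker h2
  rw [← tv_neg, ← tv_add] at h3
  have h4 : ⁅tv a b (-s + t), tv b c (1 : F)⁆ = 1 := by
    rw [commutatorElement_eq_one_iff_mul_comm]
    exact (Subgroup.mem_center_iff.1 h3 _).symm
  rw [tv_comm hab hcb.symm hca.symm, mul_one] at h4
  have h5 : (tv a c (-s + t) : SpecialLinearGroup (Fin (m + 1)) F).1 a c =
      (1 : Matrix (Fin (m + 1)) (Fin (m + 1)) F) a c :=
    congrFun (congrFun (congrArg Subtype.val h4) a) c
  rw [val_tv hca.symm, Matrix.add_apply, Matrix.single_apply_same] at h5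
  have h6 := add_eq_left.1 h5
  rw [neg_add_eq_zero] at h6
  exact h6

/-- conjugation of root groups -/
theorem conj_of {k : Fin m → I} (C : Co X k F φ) {g : Y} {a b a' b' : Fin (m + 1)} (hab : a ≠ b) (hab' : a' ≠ b')
    (hg : cj g (X (cr k a b)) = X (cr k a' b')) (s : F) : ∃ t : F, g * φ (tv a b s) * g⁻¹ = φ (tv a' b' t) := by
  have h1 : φ (tv a b s) ∈ X (cr k a b) := by
    have h0 : φ (tv a b s) ∈ (X (cr k a b) : Set Y) := by
      rw [C.root a b hab, tv_of_ne hab]
      exact ⟨s, rfl⟩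
    exact h0
  have h2 : g * φ (tv a b s) * g⁻¹ ∈ (X (cr k a' b') : Set Y) := by
    change _ ∈ X (cr k a' b')
    rw [← hg, mem_cj]
    have : g⁻¹ * (g * φ (tv a b s) * g⁻¹) * g = φ (tv a b s) := by group
    rwa [this]
  rw [C.root a' b' hab'] at h2
  obtain ⟨t, ht⟩ := h2
  exact ⟨t, by rw [tv_of_ne hab']; exact ht.symm⟩

end cnj

/-- `g` reverses the root groups of the chain `k` -/
def Rev (X : (I → ℤ) → Subgroup Y) {m : ℕ} (k : Fin m → I) (g : Y) : Prop :=
  ∀ a b : Fin (m + 1), a ≠ b → cj g (X (cr k a b)) = X (cr k (Fin.rev b) (Fin.rev a))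

section chain

variable [Finite W] [Finite Y] {F : Type} [Field F] [Finite F] {m : ℕ}
  {φ : SpecialLinearGroup (Fin (m + 1)) F →* Y} {k : Fin m ↪ I}

/-- **Cuspidal characters for chains, not invariant under the reversing elements.** -/
theorem exists_chain_ns (C : Co X k F φ) (hk : ∀ i j, M (k i) (k j) = cA m i j) (hm : 2 ≤ m)
    (hns : NS (m + 1) (Nat.card F)) :
    ∃ (θ : ↥(H53.HC.MJ cs h X (Set.range k)) → ℂ) (e t : ℕ), Cusp cs h X (Set.range k) θ ∧
      (∀ (g : Y) (hg : g ∈ Subgroup.normalizer (H53.HC.MJ cs h X (Set.range k) : Set Y)), Rev X k g →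
        θ ∘ conjME (H53.HC.MJ cs h X (Set.range k)) hg ≠ θ) ∧
      θ 1 = e ∧ e * t = ∏ i ∈ Finset.range m, (Nat.card F ^ (i + 1) - 1) ∧
      t ∣ Nat.gcd (m + 1) (Nat.card F - 1) := by
  have hq0 : Nat.card F - 1 ≠ 0 := by
    have : 1 < Nat.card F := Finite.one_lt_card
    omega
  obtain ⟨L, _, _, _, hL⟩ : ∃ (L : Type) (_ : Field L) (_ : Algebra F L) (_ : Finite L),
      Module.finrank F L = m + 1 := by
    obtain ⟨p, hp⟩ := CharP.exists F
    have : Fact p.Prime := ⟨CharP.char_is_prime F p⟩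
    have : NeZero (m + 1) := ⟨by omega⟩
    exact ⟨FiniteField.Extension F p (m + 1), inferInstance, inferInstance, inferInstance,
      FiniteField.finrank_extension F p (m + 1)⟩
  obtain ⟨θ₀, hθ₀⟩ := H139.Cusp.exists_theta L
  obtain ⟨η, e, t, hη, hc, hz, hs, he, het, ht⟩ := exists_sl_con (m := m)
    (Ψ := psi (n := m + 1) (F := F) L (powTheta θ₀ (Nat.card F - 1) hq0)) (by omega)
    (H139.Cusp.psi_isIrr _ hL (regular hθ₀ hL hq0)) (H139.Cusp.psi_isCusp L _)
    (fun c => by
      have := H139.Cusp.psi_scalar (powTheta θ₀ (Nat.card F - 1) hq0) hL c 1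
      rw [mul_one] at this
      rw [this, powTheta_algebraMap hq0 dvd_rfl c.ne_zero, one_mul])
    (H139.Cusp.psi_one L _ (by omega))
  obtain ⟨θ, hθ, hv⟩ := exists_descend (cs := cs) (h := h) C hk (by omega) hη hz hs
  have hran : φ.range = H53.HC.MJ cs h X (Set.range k) := C.range hk (by omega)
  have hmem : ∀ x, φ x ∈ H53.HC.MJ cs h X (Set.range k) := fun x => hran ▸ ⟨x, rfl⟩
  have hinj : ∀ a b : Fin (m + 1), a ≠ b → Function.Injective fun t : F => φ (tv a b t) :=
    fun a b hab => tv_injective hm C.ker hab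
  refine ⟨θ, e, t, hθ, ?_, (hv 1 1 (map_one φ).symm).trans he, het, ht⟩
  intro g hg hrev hcon
  obtain ⟨τ, D, hD⟩ := exists_swap (n := m + 1) (by omega) hinj
    (fun a b hab => conj_of C hab (fun h => hab (Fin.rev_injective h).symm) (hrev a b hab))
  refine not_swap hθ₀ hns hL hq0 hη hc τ D (swapHom D τ) (fun x => ?_) ?_
  · rw [Matrix.transpose_map]
    exact coe_swapHom D τ x
  · funext x
    rw [Function.comp_apply, ← hv x ⟨φ x, hmem x⟩ rfl, ← congrFun hcon, Function.comp_apply]
    symm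
    apply hv
    rw [conjME_coe]
    exact hD x

end chain

/-! ### the Weyl group -/

/-- injective walks on a path -/
theorem walk {m : ℕ} (g : ℕ → ℤ) (h1 : ∀ i, i + 1 < m → g (i + 1) = g i + 1 ∨ g (i + 1) = g i - 1)
    (h2 : ∀ i, i + 2 < m → g (i + 2) ≠ g i) (h3 : ∀ i, i < m → 0 ≤ g i ∧ g i < m) :
    (∀ i, i < m → g i = i) ∨ ∀ i, i < m → g i = m - 1 - i := by
  rcases Nat.lt_or_ge m 2 with hm | hm
  · left
    intro i hi
    have := h3 i hi
    omega
  · rcases h1 0 (by omega) with h0 | h0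
    · left
      have key : ∀ i, i + 1 < m → g i = g 0 + i ∧ g (i + 1) = g 0 + i + 1 := by
        intro i
        induction i with
        | zero => intro _; rw [zero_add] at h0 ⊢; constructor <;> push_cast <;> omega
        | succ i ih =>
          intro hi
          obtain ⟨e1, e2⟩ := ih (by omega)
          have e3 := h2 i (by omega)
          rcases h1 (i + 1) hi with e4 | e4
          · push_cast
            constructor <;> omega
          · exfalso
            apply e3
            rw [show i + 2 = i + 1 + 1 by ring]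
            omega
      have hl := key (m - 2) (by omega)
      have hl2 := h3 (m - 2 + 1) (by omega)
      have h00 := h3 0 (by omega)
      have g0 : g 0 = 0 := by
        have : ((m - 2 : ℕ) : ℤ) = m - 2 := by omega
        omega
      intro i hi
      rcases Nat.lt_or_ge (i + 1) m with h4 | h4
      · have := key i h4
        omega
      · have e : i = m - 2 + 1 := by omega
        rw [e]
        push_cast
        omega
    · right
      have key : ∀ i, i + 1 < m → g i = g 0 - i ∧ g (i + 1) = g 0 - i - 1 := by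
        intro i
        induction i with
        | zero => intro _; rw [zero_add] at h0 ⊢; constructor <;> push_cast <;> omega
        | succ i ih =>
          intro hi
          obtain ⟨e1, e2⟩ := ih (by omega)
          have e3 := h2 i (by omega)
          rcases h1 (i + 1) hi with e4 | e4
          · exfalso
            apply e3
            rw [show i + 2 = i + 1 + 1 by ring]
            omega
          · push_cast
            constructor <;> omega
      have hl := key (m - 2) (by omega)
      have hl2 := h3 (m - 2 + 1) (by omega)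
      have h00 := h3 0 (by omega)
      have g0 : g 0 = m - 1 := by
        have : ((m - 2 : ℕ) : ℤ) = m - 2 := by omega
        omega
      intro i hi
      rcases Nat.lt_or_ge (i + 1) m with h4 | h4
      · have := key i h4
        omega
      · have e : i = m - 2 + 1 := by omega
        rw [e]
        push_cast
        omega

theorem sr_inj {i j : I} (hij : (sr i : I → ℤ) = sr j) : i = j := by
  by_contra hne
  have := congrFun hij i
  rw [sr_self, sr_ne hne] at this
  exact one_ne_zero this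

/-- elements fixing the simple roots of `J` -/
theorem dvd_of_fix [Finite W] {J : Set I} {j : I} (hJ : ∀ i, i ∈ J ↔ i ≠ j) {w : W} (hw : Perm cs h J w)
    (hwJ : w ∉ WJ cs J) (hfix : ∀ i, i ≠ j → rep cs h w (sr i) = sr i) {N : ℤ} {z : I → ℤ} (hz0 : z j = 0)
    (hz : ∀ c, c ≠ j → N ∣ ∑ i, z i * A i c) : N ∣ 2 * ∑ i, z i * A i j := by
  set y := rep cs h w (sr j) with hy
  have hyj : y j = -1 := by
    rw [hy, H53.HC.apply_eq_neg hJ hw hwJ, sr_self]
  -- the sum of the pairings
  have h1 : ∑ i, z i * pairing A i y = ∑ i, z i * A i j := by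
    refine Finset.sum_congr rfl fun i _ => ?_
    by_cases hi : i = j
    · rw [hi, hz0, zero_mul, zero_mul]
    · rw [hy, H53.HC.pairing_rep (hfix i hi), sr, pairing_single, mul_one]
  have h2 : ∑ i, z i * pairing A i y = ∑ c, (∑ i, z i * A i c) * y c := by
    unfold pairing
    simp only [Finset.mul_sum, Finset.sum_mul]
    rw [Finset.sum_comm]
    refine Finset.sum_congr rfl fun c _ => Finset.sum_congr rfl fun i _ => ?_
    ring
  have h3 : N ∣ (∑ c, (∑ i, z i * A i c) * y c) - (∑ i, z i * A i j) * y j := by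
    rw [← Finset.sum_erase_eq_sub (Finset.mem_univ j)]
    refine Finset.dvd_sum fun c hc => Dvd.dvd.mul_right (hz c (Finset.ne_of_mem_erase hc)) _
  rw [← h2, h1, hyj] at h3
  have e : 2 * ∑ i, z i * A i j = (∑ i, z i * A i j) - (∑ i, z i * A i j) * -1 := by ring
  rw [e]
  exact h3

/-- **Elements outside `W_J` permuting the simple roots of `J` reverse the chain.** -/
theorem flip_of [Finite W] {m : ℕ} (k : Fin m ↪ I) (hk : ∀ i j, M (k i) (k j) = cA m i j) {j : I}
    (hJ : ∀ i, i ∈ Set.range k ↔ i ≠ j) {w : W} (hw : Perm cs h (Set.range k) w) (hwJ : w ∉ WJ cs (Set.range k))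
    {N : ℤ} {z : I → ℤ} (hz0 : z j = 0) (hz : ∀ c, c ≠ j → N ∣ ∑ i, z i * A i c)
    (hzj : ¬ N ∣ 2 * ∑ i, z i * A i j) (i : Fin m) : rep cs h w (sr (k i)) = sr (k (Fin.rev i)) := by
  have h1 : ∀ i : Fin m, ∃ i' : Fin m, rep cs h w (sr (k i)) = sr (k i') := by
    intro i
    obtain ⟨_, ⟨i', rfl⟩, e⟩ := hw.2 (k i) ⟨i, rfl⟩
    exact ⟨i', e⟩
  choose π hπ using h1
  have hinj : Function.Injective π := by
    intro a b hab
    have h2 : rep cs h w (sr (k a)) = rep cs h w (sr (k b)) := by rw [hπ, hπ, hab]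
    have h3 := congrArg (rep cs h w⁻¹) h2
    rw [rep_inv_apply, rep_inv_apply] at h3
    exact k.injective (sr_inj h3)
  have hcar : ∀ a b : Fin m, A (k (π a)) (k (π b)) = A (k a) (k b) := fun a b => H53.HC.cartan_rep (hπ a) (hπ b)
  -- neighbours
  have hadj : ∀ a b : Fin m, a.val + 1 = b.val → (π a).val + 1 = (π b).val ∨ (π b).val + 1 = (π a).val := by
    intro a b hab
    have h2 : M (k a) (k b) = 3 := by
      rw [hk, cA_apply]
      unfold mA
      rw [if_neg (by omega), if_pos (Or.inl hab)]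
    have h3 := hcar a b
    rw [(Cfsg.Agent.H35.ExcIdx.cartan_three h h2).1] at h3
    by_contra hcon
    push Not at hcon
    have h4 : M (k (π a)) (k (π b)) = 2 := by
      rw [hk, cA_apply]
      unfold mA
      rw [if_neg, if_neg]
      · rintro (h5 | h5)
        · exact hcon.1 h5
        · exact hcon.2 h5
      · intro h5
        have := hinj (Fin.ext h5)
        rw [this] at hab
        omega
    rw [(Cfsg.Agent.H35.ExcIdx.cartan_two h h4).1] at h3
    omega
  let g : ℕ → ℤ := fun i => if hi : i < m then (π ⟨i, hi⟩).val else 0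
  have hg : ∀ (i : ℕ) (hi : i < m), g i = (π ⟨i, hi⟩).val := fun i hi => dif_pos hi
  rcases walk (m := m) g (by
      intro i hi
      rw [hg (i + 1) hi, hg i (by omega)]
      rcases hadj ⟨i, by omega⟩ ⟨i + 1, hi⟩ rfl with h2 | h2 <;> omega) (by
      intro i hi h2
      rw [hg (i + 2) hi, hg i (by omega)] at h2
      have h3 : π ⟨i + 2, hi⟩ = π ⟨i, by omega⟩ := Fin.ext (by exact_mod_cast h2)
      have h4 := congrArg Fin.val (hinj h3)
      simp at h4) (by
      intro i hi
      rw [hg i hi]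
      have := (π ⟨i, hi⟩).2
      omega) with h2 | h2
  · exfalso
    apply hzj
    refine dvd_of_fix hJ hw hwJ (fun i hi => ?_) hz0 hz
    obtain ⟨a, rfl⟩ := (hJ i).2 hi
    rw [hπ]
    congr 2
    have h3 := h2 a.val a.2
    rw [hg a.val a.2] at h3
    exact Fin.ext (by exact_mod_cast h3)
  · rw [hπ]
    congr 2
    have h3 := h2 i.val i.2
    rw [hg i.val i.2] at h3
    apply Fin.ext
    rw [Fin.val_rev]
    have h4 := i.2
    change ((π i).val : ℤ) = m - 1 - i.val at h3
    omega

theorem rtA_rev {m : ℕ} (a b : Fin (m + 1)) (i : Fin m) :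
    rtA (Fin.rev b) (Fin.rev a) i = rtA a b (Fin.rev i) := by
  rw [rtA_apply, rtA_apply, Fin.val_rev, Fin.val_rev, Fin.val_rev]
  have h1 := a.2
  have h2 := b.2
  have h3 := i.2
  split_ifs <;> omega

/-- elements reversing the simple roots reverse the roots -/
theorem rep_cr {m : ℕ} {k : Fin m → I} {w : W} (hw : ∀ i, rep cs h w (sr (k i)) = sr (k (Fin.rev i)))
    (a b : Fin (m + 1)) : rep cs h w (cr k a b) = cr k (Fin.rev b) (Fin.rev a) := by
  unfold cr
  rw [iota_apply, iota_apply, map_sum]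
  rw [← Equiv.sum_comp (Fin.revPerm (n := m)) (fun j => rtA (Fin.rev b) (Fin.rev a) j • sr (k j))]
  refine Finset.sum_congr rfl fun i _ => ?_
  rw [map_smul, hw, rtA_rev]
  simp only [Fin.revPerm_apply, Fin.rev_rev]

/-- **Irreducible characters.** -/
theorem exists_irr_chain [Finite W] [Fintype Y] (R : RGD cs h p T n X) (hG : GG cs h T X = ⊤) {m : ℕ} (hm : 2 ≤ m)
    (k : Fin m ↪ I) (hk : ∀ i j, M (k i) (k j) = cA m i j) {j : I} (hJ : ∀ i, i ∈ Set.range k ↔ i ≠ j)
    {N : ℤ} {z : I → ℤ} (hz0 : z j = 0) (hz : ∀ c, c ≠ j → N ∣ ∑ i, z i * A i c)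
    (hzj : ¬ N ∣ 2 * ∑ i, z i * A i j) {q : ℕ} (i₀ : Fin m) (hq : Nat.card (X (sr (k i₀))) = q)
    (hns : NS (m + 1) q) :
    ∃ χ : Y → ℂ, IsIrrCharacter Y χ ∧ ∃ a e t : ℕ, 0 < a ∧
      χ 1 = (((PJ cs h T X (Set.range k)).index * (a * e) : ℕ) : ℂ) ∧
      e * t = ∏ i ∈ Finset.range m, (q ^ (i + 1) - 1) ∧ t ∣ Nat.gcd (m + 1) (q - 1) := by
  obtain ⟨F, _, _, φ, C⟩ := exists_co R hm k hk
  have hcard := C.card i₀
  rw [hq] at hcard
  rw [hcard] at hns
  obtain ⟨θ, e, t, hθ, hn, he, het, ht⟩ := exists_chain_ns (cs := cs) (h := h) C hk hm hns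
  rw [← hcard] at het ht
  obtain ⟨χ, hχ, a, ha, hχ1⟩ := H53.HC.exists_irr_MJ R hG (Set.range k) hθ.irr hθ.van (by
    intro w g hg hw hp
    have hflip := flip_of (cs := cs) (h := h) k hk hJ hp.inv (fun hh => hw (by simpa using inv_mem hh)) hz0 hz hzj
    by_contra hcon
    push Not at hcon
    refine hn g⁻¹ (inv_mem (H53.HC.rp_mem_normalizer_MJ R hg hp)) ?_ ?_
    · intro a b hab
      rw [R.conj_rp hg.inv ((mem_rootsJ (cs := cs) (h := h) hk).2 ⟨a, b, hab, rfl⟩).1, rep_cr hflip]
    · funext x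
      rw [Function.comp_apply]
      refine Eq.trans ?_ (hcon x x.2)
      congr 1
      apply Subtype.ext
      rw [conjME_coe, inv_inv])
  refine ⟨χ, hχ, a, e, t, ha, ?_, het, ht⟩
  rw [hχ1, he]
  push_cast
  ring

end Cfsg.Agent.H622.Van
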